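import Cfsg.Agent.Spor.HNP.L.D0

set_option autoImplicit false
set_option maxRecDepth 100000000
set_option Elab.async false

namespace Cfsg.Agent.Spor.HNP.L

theorem uok3 : Net.okb 11 un3 = true := by decide +kernel

theorem rel3 : U.rel 11 [7, 5, 3, 1, 5, 1, 1, 1, 5, 3, 5, 3, 1, 5, 5, 5, 5, 1, 3, 5, 3, 3, 5] 0 11 = true := by decide +kernel

theorem uok4 : Net.okb 11 un4 = true := by decide +kernel

theorem rel4 : U.rel 11 [9, 1, 5, 3, 3, 5, 3, 1, 1, 1, 1, 1, 1, 5, 1, 1, 3, 1, 3, 1, 1, 5, 3, 5, 3, 3, 5] 0 11 = true := by decide +kernel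

theorem gr6 : sub M5 (U.growI W1 [0, 2, 1, 0, 0, 1, 2, 1, 0, 0, 1, 2, 1, 0, 0, 1, 2, 1, 0, 0, 1, 2] (Nat.shiftLeft 1 0)) = true := by decide +kernel

theorem cl8 : band (U.closedW W1 M5) (sub (Nat.shiftLeft 1 0) M5) = true := by decide +kernel

theorem sz9 : sizeOk 11 M5 1408 = true := by decide +kernel

theorem fx12 : U.closedW W11 (Nat.shiftLeft 1 0) = true := by decide +kernel

theorem uok5 : Net.okb 11 un5 = true := by decide +kernel

theorem rel13 : U.rel 11 [11, 9, 9, 9, 7, 9, 9, 7, 7, 9, 7, 7, 9, 9, 7] 0 11 = true := by decide +kernel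

theorem uok6 : Net.okb 11 un6 = true := by decide +kernel

theorem rel14 : U.rel 11 [13, 7, 7, 7, 7, 9, 9, 9, 9, 7, 7, 9, 7] 0 11 = true := by decide +kernel

theorem uok7 : Net.okb 11 un7 = true := by decide +kernel

theorem rel15 : U.rel 11 [15, 9, 9, 9, 7, 7, 9, 7, 9, 7, 7, 7, 9, 9, 9, 7, 9, 7, 7, 9, 7, 7, 9, 7, 7, 9, 7, 7, 9, 7] 0 11 = true := by decide +kernel

theorem gr17 : sub M16 (U.growI W11 [0, 1, 1, 0, 0, 1, 1, 0, 0, 1, 1, 0, 0, 1, 1, 0, 0, 1, 1] (Nat.shiftLeft 1 196)) = true := by decide +kernel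

theorem cl19 : band (U.closedW W11 M16) (sub (Nat.shiftLeft 1 196) M16) = true := by decide +kernel

theorem sz20 : sizeOk 11 M16 504 = true := by decide +kernel

theorem fx23 : U.closedW W22 (Nat.shiftLeft 1 196) = true := by decide +kernel

theorem gr25 : sub M24 (U.growI W22 [1, 2, 1, 0, 1, 2, 1, 0] (Nat.shiftLeft 1 128)) = true := by decide +kernel

theorem cl27 : band (U.closedW W22 M24) (sub (Nat.shiftLeft 1 128) M24) = true := by decide +kernel

theorem sz28 : sizeOk 11 M24 25 = true := by decide +kernel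

theorem fx31 : U.closedW W30 (Nat.shiftLeft 1 128) = true := by decide +kernel

theorem gr33 : sub M32 (U.growI W30 [0, 1, 0, 1, 0] (Nat.shiftLeft 1 7)) = true := by decide +kernel

theorem cl35 : band (U.closedW W30 M32) (sub (Nat.shiftLeft 1 7) M32) = true := by decide +kernel

theorem sz36 : sizeOk 11 M32 10 = true := by decide +kernel

end Cfsg.Agent.Spor.HNP.L
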