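import Cfsg.Agent.Spor.Prim
import Cfsg.Agent.Spor.HNP.Main
import Cfsg.Agent.Spor.HNP.L.C0
import Cfsg.Agent.Spor.TT2

set_option autoImplicit false
set_option maxRecDepth 100000000
set_option Elab.async false

namespace Cfsg.Agent.Spor.HNP.L

theorem hU : U.Ok 11 := U.ok_of 11 (show AllP (fun n => Net.okb 11 n = true) [n0, n1, n2, un3, un4, un5, un6, un7] from AllP.cons ok0 (AllP.cons ok1 (AllP.cons ok2 (AllP.cons uok3 (AllP.cons uok4 (AllP.cons uok5 (AllP.cons uok6 (AllP.cons uok7 (AllP.nil)))))))))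

theorem hfP : ∀ j < 3, U.fP [1, 3, 5] j = fP j := by
  intro j hj
  interval_cases j <;> rfl
theorem eG : gsub 3 fP = U.lsub W1 := (gsub_congr hfP).symm.trans (lsub_eq_gsub U [1, 3, 5])
theorem upz1 : ev (atm 3 fP) [0] = U.τ 1 := pz1
theorem upz3 : ev (atm 3 fP) [2] = U.τ 3 := pz2
theorem upz5 : ev (atm 3 fP) [4] = U.τ 5 := pz3
theorem eH : wsub 3 fP BW = U.lsub W2 :=
  lsub_eq_of_all₂ (show List.Forall₂ _ [] [] from List.Forall₂.nil)
theorem reach7 : Reach (U.lsub W1) 0 M5 := (Reach.grow hU (Reach.base _ 0) gr6)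
theorem orb10 : (orbS (U.lsub W1) 0).ncard = 1408 := reach7.ncard hU cl8 sz9
theorem orb10e : orbS (U.lsub W1) 0 = {c | Nat.testBit M5 c = true} := reach7.orb hU cl8
theorem reach18 : Reach (U.lsub W11) 196 M16 := (Reach.grow hU (Reach.base _ 196) gr17)
theorem orb21 : (orbS (U.lsub W11) 196).ncard = 504 := reach18.ncard hU cl19 sz20
theorem orb21e : orbS (U.lsub W11) 196 = {c | Nat.testBit M16 c = true} := reach18.orb hU cl19
theorem reach26 : Reach (U.lsub W22) 128 M24 := (Reach.grow hU (Reach.base _ 128) gr25)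
theorem orb29 : (orbS (U.lsub W22) 128).ncard = 25 := reach26.ncard hU cl27 sz28
theorem orb29e : orbS (U.lsub W22) 128 = {c | Nat.testBit M24 c = true} := reach26.orb hU cl27
theorem reach34 : Reach (U.lsub W30) 7 M32 := (Reach.grow hU (Reach.base _ 7) gr33)
theorem orb37 : (orbS (U.lsub W30) 7).ncard = 10 := reach34.ncard hU cl35 sz36
theorem orb37e : orbS (U.lsub W30) 7 = {c | Nat.testBit M32 c = true} := reach34.orb hU cl35
theorem lb38 : 10 ∣ Nat.card (U.lsub W30) := dvd_card_orb orb37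
theorem lb39 : 250 ∣ Nat.card (U.lsub W22) :=
  dvd_card_step (s := 25) (M := 10) (B := U.lsub W30) (U.lsub_sub (by decide)) (hU.fixes fx31) orb29 lb38
theorem lb40 : 126000 ∣ Nat.card (U.lsub W11) :=
  dvd_card_step (s := 504) (M := 250) (B := U.lsub W22) (Tab.lsub_le_all (AllP.cons (mem_of_rel (hU.one rel13) (U.mem_letters (by decide))) (AllP.cons (mem_of_rel (hU.one rel14) (U.mem_letters (by decide))) (AllP.cons (mem_of_rel (hU.one rel15) (U.mem_letters (by decide))) (AllP.nil))))) (hU.fixes fx23) orb21 lb39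
theorem lb : 177408000 ∣ Nat.card (U.lsub W1) :=
  dvd_card_step (s := 1408) (M := 126000) (B := U.lsub W11) (Tab.lsub_le_all (AllP.cons (mem_of_rel (hU.one rel3) (U.mem_letters (by decide))) (AllP.cons (mem_of_rel (hU.one rel4) (U.mem_letters (by decide))) (AllP.nil)))) (hU.fixes fx12) orb10 lb40

end Cfsg.Agent.Spor.HNP.L
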